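import Groth.Prelude.Def_FEt
import Groth.Agent.HenselLib.Unique
import Groth.Agent.HenselLib.LiftEtalePair
import Groth.Agent.FEtFaithful.Basic
import Mathlib.AlgebraicGeometry.Morphisms.Etale
import Mathlib.RingTheory.Spectrum.Prime.RingHom

/-!
# Finite étale covers of a henselian pair
-/

set_option autoImplicit false
universe u
open CategoryTheory CategoryTheory.Limits AlgebraicGeometry

namespace Groth.Agent.FEtHensel

variable {A : Type u} [CommRing A] (I : Ideal A)

/-- The closed immersion `Spec (A ⧸ I) ⟶ Spec A`. -/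
noncomputable abbrev quotMap : Spec (CommRingCat.of (A ⧸ I)) ⟶ Spec (CommRingCat.of A) :=
  Spec.map (CommRingCat.ofHom (Ideal.Quotient.mk I))

theorem isPushout_quot {T C : CommRingCat.{u}} (ψ : CommRingCat.of A ⟶ T)
    (π : T ⟶ C) (γ : CommRingCat.of (A ⧸ I) ⟶ C) (hπ : Function.Surjective π.hom)
    (hker : RingHom.ker π.hom ≤ I.map ψ.hom)
    (hw : ψ ≫ π = CommRingCat.ofHom (Ideal.Quotient.mk I) ≫ γ) :
    IsPushout ψ (CommRingCat.ofHom (Ideal.Quotient.mk I)) π γ := by
  refine IsPushout.of_isColimit' ⟨hw⟩ (PushoutCocone.IsColimit.mk _ (fun s => CommRingCat.ofHom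
    (RingHom.liftOfSurjective π.hom hπ ⟨s.inl.hom, hker.trans (Ideal.map_le_iff_le_comap.mpr ?_)⟩))
    ?_ ?_ ?_)
  · intro a ha
    have h := congr($(s.condition).hom a)
    show s.inl.hom (ψ.hom a) = 0
    refine h.trans ?_
    show s.inr.hom (Ideal.Quotient.mk I a) = 0
    rw [Ideal.Quotient.eq_zero_iff_mem.mpr ha, map_zero]
  · intro s
    ext t
    exact RingHom.liftOfSurjective_comp_apply π.hom hπ _ t
  · intro s
    ext a
    have h1 : γ.hom (Ideal.Quotient.mk I a) = π.hom (ψ.hom a) := congr($(hw.symm).hom a)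
    show RingHom.liftOfSurjective π.hom hπ _ (γ.hom (Ideal.Quotient.mk I a)) = _
    rw [h1]
    exact (RingHom.liftOfSurjective_comp_apply π.hom hπ _ _).trans congr($(s.condition).hom a)
  · intro s m h1 _
    ext c
    obtain ⟨t, rfl⟩ := hπ c
    refine congr($(h1).hom t).trans ?_
    exact (RingHom.liftOfSurjective_comp_apply π.hom hπ ⟨s.inl.hom, _⟩ t).symm

/-- Maps over the closed subscheme lift, affine form. -/
theorem exists_lift_spec [HenselianRing A I] {T E : CommRingCat.{u}} (ψT : CommRingCat.of A ⟶ T)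
    (ψE : CommRingCat.of A ⟶ E) (hT : ψT.hom.Finite) (hE : ψE.hom.Etale)
    (g : pullback (Spec.map ψT) (quotMap I) ⟶ Spec E)
    (hg : g ≫ Spec.map ψE = pullback.fst _ _ ≫ Spec.map ψT) :
    ∃ k : Spec T ⟶ Spec E, k ≫ Spec.map ψE = Spec.map ψT ∧ pullback.fst _ _ ≫ k = g := by
  algebraize [ψT.hom, ψE.hom]
  haveI : Algebra.IsIntegral A T := Algebra.IsIntegral.of_finite A T
  let J : Ideal T := I.map (algebraMap A T)
  haveI : HenselianRing T J := HenselLib.henselianRing_of_isIntegral I T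
  let π : T ⟶ CommRingCat.of (T ⧸ J) := CommRingCat.ofHom (Ideal.Quotient.mk J)
  let γ : CommRingCat.of (A ⧸ I) ⟶ CommRingCat.of (T ⧸ J) :=
    CommRingCat.ofHom (Ideal.quotientMap J ψT.hom Ideal.le_comap_map)
  have hpo : IsPushout ψT (CommRingCat.ofHom (Ideal.Quotient.mk I)) π γ :=
    isPushout_quot I ψT π γ Ideal.Quotient.mk_surjective Ideal.mk_ker.le (by ext a; rfl)
  have hpb := isPullback_SpecMap_of_isPushout _ _ _ _ hpo
  obtain ⟨σ, hσ⟩ := Spec.map_surjective (hpb.isoPullback.hom ≫ g)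
  have hσA : ψE ≫ σ = ψT ≫ π := by
    apply Spec.map_injective
    rw [Spec.map_comp, Spec.map_comp, hσ, Category.assoc, hg, IsPullback.isoPullback_hom_fst_assoc]
  let σ' : E →ₐ[A] T ⧸ J := { σ.hom with commutes' := fun a => congr($(hσA).hom a) }
  obtain ⟨τ, hτ, -⟩ := HenselLib.existsUnique_lift J σ'
  let τ' : E ⟶ T := CommRingCat.ofHom τ.toRingHom
  have h1 : ψE ≫ τ' = ψT := by ext a; exact τ.commutes a
  have h2 : τ' ≫ π = σ := by ext x; exact AlgHom.congr_fun hτ x
  refine ⟨Spec.map τ', by rw [← Spec.map_comp, h1], ?_⟩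
  rw [← cancel_epi hpb.isoPullback.hom, IsPullback.isoPullback_hom_fst_assoc, ← Spec.map_comp, h2, hσ]

/-- Maps over the closed subscheme lift. -/
theorem exists_lift [HenselianRing A I] {Y E : Scheme.{u}} (p : Y ⟶ Spec (CommRingCat.of A))
    (q : E ⟶ Spec (CommRingCat.of A)) [IsFinite p] [IsFinite q] [Etale q]
    (g : pullback p (quotMap I) ⟶ E) (hg : g ≫ q = pullback.fst _ _ ≫ p) :
    ∃ k : Y ⟶ E, k ≫ q = p ∧ pullback.fst _ _ ≫ k = g := by
  haveI : IsAffine Y := isAffine_of_isAffineHom p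
  haveI : IsAffine E := isAffine_of_isAffineHom q
  obtain ⟨ψT, hψT⟩ := Spec.map_surjective (Y.isoSpec.inv ≫ p)
  obtain ⟨ψE, hψE⟩ := Spec.map_surjective (E.isoSpec.inv ≫ q)
  have hT : ψT.hom.Finite := (IsFinite.SpecMap_iff ψT).mp (hψT ▸ inferInstance)
  have hE : ψE.hom.Etale := by
    have : Etale (Spec.map ψE) := hψE ▸ inferInstance
    exact (HasRingHomProperty.Spec_iff (P := @Etale)).mp this
  let m : pullback (Spec.map ψT) (quotMap I) ⟶ pullback p (quotMap I) :=
    pullback.map _ _ _ _ Y.isoSpec.inv (𝟙 _) (𝟙 _) (by rw [Category.comp_id, hψT]) (by simp)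
  have hm : m ≫ pullback.fst _ _ = pullback.fst _ _ ≫ Y.isoSpec.inv := pullback.lift_fst _ _ _
  obtain ⟨k, hk1, hk2⟩ := exists_lift_spec I ψT ψE hT hE (m ≫ g ≫ E.isoSpec.hom) (by
    rw [Category.assoc, Category.assoc, hψE, Iso.hom_inv_id_assoc, hg, reassoc_of% hm, hψT])
  refine ⟨Y.isoSpec.hom ≫ k ≫ E.isoSpec.inv, ?_, ?_⟩
  · rw [Category.assoc, Category.assoc, ← hψE, hk1, hψT, Iso.hom_inv_id_assoc]
  · let m' : pullback p (quotMap I) ⟶ pullback (Spec.map ψT) (quotMap I) :=
      pullback.map _ _ _ _ Y.isoSpec.hom (𝟙 _) (𝟙 _)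
        (by rw [Category.comp_id, hψT, Iso.hom_inv_id_assoc]) (by simp)
    have hm' : m' ≫ pullback.fst _ _ = pullback.fst _ _ ≫ Y.isoSpec.hom := pullback.lift_fst _ _ _
    have hms : m ≫ pullback.snd _ _ = pullback.snd _ _ :=
      (pullback.lift_snd _ _ _).trans (Category.comp_id _)
    have hms' : m' ≫ pullback.snd _ _ = pullback.snd _ _ :=
      (pullback.lift_snd _ _ _).trans (Category.comp_id _)
    have hmm : m' ≫ m = 𝟙 _ := by
      apply pullback.hom_ext
      · rw [Category.assoc, hm, reassoc_of% hm', Iso.hom_inv_id, Category.comp_id, Category.id_comp]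
      · rw [Category.assoc, hms, hms', Category.id_comp]
    rw [← reassoc_of% hm', reassoc_of% hk2, reassoc_of% hmm]
    simp

theorem zeroLocus_meets_clopen [HenselianRing A I] (Z : Set ↥(Spec (CommRingCat.of A))) (hZ : IsClopen Z)
    (hne : Z.Nonempty) : (Z ∩ Set.range (quotMap I)).Nonempty := by
  obtain ⟨x, hx⟩ := hne
  obtain ⟨M, hM, hle⟩ := Ideal.exists_le_maximal x.asIdeal x.2.ne_top
  let y : PrimeSpectrum A := ⟨M, hM.isPrime⟩
  refine ⟨y, hZ.1.stableUnderSpecialization ((PrimeSpectrum.le_iff_specializes x y).mp hle) hx, ?_⟩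
  change y ∈ Set.range (PrimeSpectrum.comap (Ideal.Quotient.mk I))
  rw [range_comap_of_surjective _ _ (Ideal.Quotient.mk_surjective (I := I)), Ideal.mk_ker]
  exact (HenselianRing.jac (I := I)).trans (sInf_le ⟨bot_le, hM⟩) 

theorem faithful_restrict [HenselianRing A I] : (FEt.restrict (quotMap I)).Faithful :=
  FEtFaithful.restrict_faithful _ (fun Z hZ hne => zeroLocus_meets_clopen I Z hZ hne)

theorem full_restrict [HenselianRing A I] : (FEt.restrict (quotMap I)).Full := by
  refine ⟨fun {P Q} φ => ?_⟩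
  haveI : IsFinite P.hom := P.prop.1
  haveI : IsFinite Q.hom := Q.prop.1
  haveI : Etale Q.hom := Q.prop.2
  have hsnd : φ.left ≫ pullback.snd Q.hom (quotMap I) = pullback.snd P.hom (quotMap I) :=
    MorphismProperty.Over.w φ
  let g : pullback P.hom (quotMap I) ⟶ Q.left := φ.left ≫ pullback.fst Q.hom (quotMap I)
  have hg : g ≫ Q.hom = pullback.fst P.hom (quotMap I) ≫ P.hom := by
    show (φ.left ≫ pullback.fst Q.hom (quotMap I)) ≫ Q.hom = _
    refine (Category.assoc _ _ _).trans ?_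
    exact ((congrArg (φ.left ≫ ·) pullback.condition).trans
      ((Category.assoc _ _ _).symm.trans (congrArg (· ≫ quotMap I) hsnd))).trans pullback.condition.symm
  obtain ⟨k, hk₁, hk₂⟩ := exists_lift I P.hom Q.hom g hg
  refine ⟨MorphismProperty.Over.homMk k hk₁, MorphismProperty.Over.Hom.ext (pullback.hom_ext ?_ ?_)⟩
  · exact (pullback.lift_fst _ _ _).trans hk₂
  · exact (pullback.lift_snd _ _ _).trans hsnd.symm

theorem essSurj_restrict [HenselianRing A I] : (FEt.restrict (quotMap I)).EssSurj := by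
  refine ⟨fun Q => ?_⟩
  haveI : IsFinite Q.hom := Q.prop.1
  haveI : Etale Q.hom := Q.prop.2
  haveI : IsAffine Q.left := isAffine_of_isAffineHom (Y := Spec (CommRingCat.of (A ⧸ I))) Q.hom
  obtain ⟨γ, hγ⟩ := Spec.map_surjective (Q.left.isoSpec.inv ≫ Q.hom)
  have h1 : γ.hom.Finite := (IsFinite.SpecMap_iff γ).mp (hγ ▸ inferInstance)
  have h2 : γ.hom.Etale := by
    have : Etale (Spec.map γ) := hγ ▸ inferInstance
    exact (HasRingHomProperty.Spec_iff (P := @Etale)).mp this
  algebraize [γ.hom]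
  let := (γ.hom.comp (Ideal.Quotient.mk I)).toAlgebra
  haveI : IsScalarTower A (A ⧸ I) Γ(Q.left, ⊤) := .of_algebraMap_eq' rfl
  obtain ⟨T, _, _, π, hfin, het, hsurj, hker⟩ := HenselLib.exists_finite_etale_lift I Γ(Q.left, ⊤)
  let ψ : CommRingCat.of A ⟶ CommRingCat.of T := CommRingCat.ofHom (algebraMap A T)
  haveI : IsFinite (Spec.map ψ) := (IsFinite.SpecMap_iff ψ).mpr (RingHom.finite_algebraMap.mpr hfin)
  haveI : Etale (Spec.map ψ) :=
    (HasRingHomProperty.Spec_iff (P := @Etale)).mpr (RingHom.etale_algebraMap.mpr het)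
  let P : FEt.Cat (Spec (CommRingCat.of A)) := MorphismProperty.Over.mk _ (Spec.map ψ) ⟨‹_›, ‹_›⟩
  have hpo : IsPushout ψ (CommRingCat.ofHom (Ideal.Quotient.mk I)) (CommRingCat.ofHom π.toRingHom) γ :=
    isPushout_quot I ψ _ _ hsurj hker (by ext a; exact π.commutes a)
  have hpb := isPullback_SpecMap_of_isPushout _ _ _ _ hpo
  refine ⟨P, ⟨MorphismProperty.Over.isoMk (hpb.isoPullback.symm ≪≫ Q.left.isoSpec.symm) ?_⟩⟩
  show (hpb.isoPullback.symm ≪≫ Q.left.isoSpec.symm).hom ≫ Q.hom = pullback.snd _ _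
  rw [Iso.trans_hom, Category.assoc]
  show hpb.isoPullback.inv ≫ Q.left.isoSpec.inv ≫ Q.hom = _
  rw [← hγ, IsPullback.isoPullback_inv_snd]

theorem isEquivalence_restrict [HenselianRing A I] : (FEt.restrict (quotMap I)).IsEquivalence := by
  haveI := faithful_restrict I
  haveI := full_restrict I
  haveI := essSurj_restrict I
  exact {}

end Groth.Agent.FEtHensel
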