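import Groth.Agent.FEtHensel.Affine
import Groth.Agent.FullyFaithBC.GeomConn
import Groth.Agent.FieldExtConn.Conn
import Mathlib.AlgebraicGeometry.Morphisms.Proper

/-!
# Restriction to a proper scheme over a henselian local ring with geometrically connected closed fibre
-/

set_option autoImplicit false
universe u
open CategoryTheory CategoryTheory.Limits AlgebraicGeometry

namespace Groth.Agent.FEtHensel

/-- Fullness of base change along `f` from that of its restriction `f₀` over `S₀`. -/
theorem exists_desc_of_fibre {S S₀ X X₀ T E : Scheme.{u}} {f : X ⟶ S} {i : S₀ ⟶ S} {f₀ : X₀ ⟶ S₀}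
    {j : X₀ ⟶ X} (hj : IsPullback j f₀ f i) [GeometricallyConnected f₀] [UniversallyOpen f₀] [Flat f₀]
    [QuasiCompact f₀] (p : T ⟶ S) (q : E ⟶ S) [IsFinite p] [Etale p] [IsFinite q] [Etale q]
    (hlift : ∀ g : pullback p i ⟶ E, g ≫ q = pullback.fst p i ≫ p →
      ∃ k : T ⟶ E, k ≫ q = p ∧ pullback.fst p i ≫ k = g)
    (hX : ∀ Z : Set X, IsClopen Z → Z.Nonempty → (Z ∩ Set.range j).Nonempty)
    (g : pullback p f ⟶ E) (hg : g ≫ q = pullback.fst p f ≫ p) :
    ∃ k : T ⟶ E, k ≫ q = p ∧ pullback.fst p f ≫ k = g := by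
  let p₀ := pullback.snd p i
  let q₀ := pullback.snd q i
  let l : pullback p₀ f₀ ⟶ pullback p f :=
    pullback.lift (pullback.fst _ _ ≫ pullback.fst _ _) (pullback.snd _ _ ≫ j) (by
      rw [Category.assoc, Category.assoc, pullback.condition, hj.w, pullback.condition_assoc])
  have hl₁ : l ≫ pullback.fst p f = pullback.fst p₀ f₀ ≫ pullback.fst p i := pullback.lift_fst _ _ _
  let g₀ : pullback p₀ f₀ ⟶ pullback q i :=
    pullback.lift (l ≫ g) (pullback.snd _ _ ≫ f₀) (by
      rw [Category.assoc, hg, reassoc_of% hl₁, pullback.condition, pullback.condition_assoc, Category.assoc])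
  have hg₀ : g₀ ≫ q₀ = pullback.fst p₀ f₀ ≫ p₀ := by
    rw [pullback.lift_snd]; exact pullback.condition.symm
  obtain ⟨k₀, hk₀, hk₀'⟩ := FullyFaithBC.exists_desc_of_geometricallyConnected f₀ p₀ q₀ g₀ hg₀
  obtain ⟨k, hk, hk'⟩ := hlift (k₀ ≫ pullback.fst q i) (by
    rw [Category.assoc, pullback.condition, reassoc_of% hk₀, pullback.condition])
  refine ⟨k, hk, ?_⟩
  have hp : pullback.fst p f ≫ k ≫ q = pullback.fst p f ≫ p := by rw [hk]
  -- both maps into the cover `E ×_S X` of `X`
  let u : pullback p f ⟶ pullback q f :=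
    pullback.lift (pullback.fst p f ≫ k) (pullback.snd p f) (by rw [Category.assoc, hp, pullback.condition])
  let v : pullback p f ⟶ pullback q f :=
    pullback.lift g (pullback.snd p f) (by rw [hg, pullback.condition])
  suffices h : u = v by
    have := congrArg (· ≫ pullback.fst q f) h
    simp only [u, v, pullback.lift_fst] at this
    exact this
  haveI : IsFinite (pullback.snd p f) := inferInstance
  haveI : Etale (pullback.snd p f) := inferInstance
  haveI : IsFinite (pullback.snd q f) := inferInstance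
  haveI : Etale (pullback.snd q f) := inferInstance
  refine FEtFaithful.eq_of_fst_comp_eq j (pullback.snd p f) (pullback.snd q f) u v
    (pullback.lift_snd _ _ _) (pullback.lift_snd _ _ _) hX (pullback.hom_ext ?_ ?_)
  · let m : pullback (pullback.snd p f) j ⟶ pullback p₀ f₀ :=
      pullback.lift (pullback.lift (pullback.fst _ _ ≫ pullback.fst _ _) (pullback.snd _ _ ≫ f₀) (by
        rw [Category.assoc, Category.assoc, pullback.condition, pullback.condition_assoc, hj.w]))
        (pullback.snd _ _) (pullback.lift_snd _ _ _)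
    have hm : m ≫ l = pullback.fst (pullback.snd p f) j := by
      apply pullback.hom_ext
      · rw [Category.assoc, hl₁, pullback.lift_fst_assoc, pullback.lift_fst]
      · rw [Category.assoc, pullback.lift_snd, pullback.lift_snd_assoc]
        exact pullback.condition.symm
    simp only [u, v, Category.assoc, pullback.lift_fst]
    rw [← hm, Category.assoc, reassoc_of% hl₁, hk', reassoc_of% hk₀', pullback.lift_fst, Category.assoc]
  · simp only [u, v, Category.assoc, pullback.lift_snd]

/-- The closed fibre of a universally closed morphism to a local scheme meets every nonempty clopen. -/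
theorem closedFibre_meets_clopen {A : Type u} [CommRing A] [IsLocalRing A] {X X₀ : Scheme.{u}}
    {f : X ⟶ Spec (CommRingCat.of A)} [UniversallyClosed f] {j : X₀ ⟶ X}
    {f₀ : X₀ ⟶ Spec (CommRingCat.of (A ⧸ IsLocalRing.maximalIdeal A))}
    (hj : IsPullback j f₀ f (quotMap (IsLocalRing.maximalIdeal A)))
    (Z : Set X) (hZ : IsClopen Z) (hne : Z.Nonempty) : (Z ∩ Set.range j).Nonempty := by
  obtain ⟨s, hs⟩ := hne
  have hc : IsClosed (f '' Z) := f.isClosedMap Z hZ.1
  have hcp : IsLocalRing.closedPoint A ∈ f '' Z :=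
    hc.stableUnderSpecialization (IsLocalRing.specializes_closedPoint (f s)) ⟨s, hs, rfl⟩
  obtain ⟨x, hx, hfx⟩ := hcp
  refine ⟨x, hx, ?_⟩
  rw [← hj.isoPullback_hom_fst, Scheme.Hom.comp_base, TopCat.coe_comp,
    Set.range_comp, (hj.isoPullback.hom.surjective).range_eq, Set.image_univ, Scheme.Pullback.range_fst]
  show f x ∈ Set.range (PrimeSpectrum.comap (Ideal.Quotient.mk (IsLocalRing.maximalIdeal A)))
  rw [range_comap_of_surjective _ _ (Ideal.Quotient.mk_surjective (I := IsLocalRing.maximalIdeal A)),
    Ideal.mk_ker, hfx]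
  exact fun a ha => ha

/-- Base change to a proper scheme with geometrically connected closed fibre is fully faithful. -/
theorem fullyFaithful_of_closedFibre (A : Type u) [CommRing A] [IsLocalRing A]
    [HenselianRing A (IsLocalRing.maximalIdeal A)] {X : Scheme.{u}}
    (f : X ⟶ Spec (CommRingCat.of A)) [UniversallyClosed f] [QuasiCompact f]
    [GeometricallyConnected (pullback.snd f (Spec.map (CommRingCat.ofHom (IsLocalRing.residue A))))] :
    (FEt.restrict f).Full ∧ (FEt.restrict f).Faithful := by
  let k := CommRingCat.of (IsLocalRing.ResidueField A)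
  let i : Spec k ⟶ Spec (CommRingCat.of A) := Spec.map (CommRingCat.ofHom (IsLocalRing.residue A))
  let f₀ : pullback f i ⟶ Spec k := pullback.snd f i
  have hj : IsPullback (pullback.fst f i) f₀ f i := IsPullback.of_hasPullback f i
  haveI : GeometricallyConnected f₀ :=
    ‹GeometricallyConnected (pullback.snd f (Spec.map (CommRingCat.ofHom (IsLocalRing.residue A))))›
  haveI : QuasiCompact f₀ := MorphismProperty.pullback_snd _ _ ‹_›
  have hX := closedFibre_meets_clopen hj
  refine ⟨⟨fun {P Q} φ => ?_⟩, FEtFaithful.restrict_faithful f fun Z hZ hne => ?_⟩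
  · haveI : IsFinite P.hom := P.prop.1
    haveI : Etale P.hom := P.prop.2
    haveI : IsFinite Q.hom := Q.prop.1
    haveI : Etale Q.hom := Q.prop.2
    let g : pullback P.hom f ⟶ Q.left := φ.left ≫ pullback.fst Q.hom f
    have hsnd : φ.left ≫ pullback.snd Q.hom f = pullback.snd P.hom f := MorphismProperty.Over.w φ
    have hg : g ≫ Q.hom = pullback.fst P.hom f ≫ P.hom := by
      show (φ.left ≫ pullback.fst Q.hom f) ≫ Q.hom = _
      refine (Category.assoc _ _ _).trans ?_
      exact ((congrArg (φ.left ≫ ·) pullback.condition).trans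
        ((Category.assoc _ _ _).symm.trans (congrArg (· ≫ f) hsnd))).trans pullback.condition.symm
    obtain ⟨l, hl₁, hl₂⟩ := exists_desc_of_fibre hj P.hom Q.hom
      (fun g' hg' => exists_lift (IsLocalRing.maximalIdeal A) P.hom Q.hom g' hg') hX g hg
    refine ⟨MorphismProperty.Over.homMk l hl₁, MorphismProperty.Over.Hom.ext (pullback.hom_ext ?_ ?_)⟩
    · exact (pullback.lift_fst _ _ _).trans hl₂
    · exact (pullback.lift_snd _ _ _).trans hsnd.symm
  · obtain ⟨z, hzZ, hz⟩ := zeroLocus_meets_clopen (IsLocalRing.maximalIdeal A) Z hZ hne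
    haveI : Surjective f₀ := inferInstance
    obtain ⟨s, hs⟩ := hz
    obtain ⟨x, hx⟩ := f₀.surjective s
    refine ⟨z, hzZ, pullback.fst f i x, ?_⟩
    rw [← hs, ← hx, ← Scheme.Hom.comp_apply, hj.w]
    rfl

end Groth.Agent.FEtHensel
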